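import Mathlib.RingTheory.GradedAlgebra.HomogeneousLocalization
import Mathlib.RingTheory.Finiteness.ModuleFinitePresentation
import Mathlib.RingTheory.FinitePresentation
import Mathlib.RingTheory.IntegralClosure.IsIntegralClosure.Basic

/-!
# Degree parts of `A_f` for a finitely presented graded algebra `A`
-/

set_option autoImplicit false
set_option linter.all false
set_option backward.isDefEq.respectTransparency false

universe u

open HomogeneousLocalization

noncomputable section

namespace GrothLib.RelProjFP10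

theorem fp_of_retraction {C B M : Type*} [CommRing C] [AddCommGroup B] [Module C B] [AddCommGroup M] [Module C M]
    [Module.FinitePresentation C B] (q : B →ₗ[C] M) (s : M →ₗ[C] B) (h : ∀ x, q (s x) = x) :
    Module.FinitePresentation C M := by
  refine Module.finitePresentation_of_surjective q (fun x => ⟨s x, h x⟩) ?_
  have e : LinearMap.ker q = LinearMap.range (LinearMap.id - s.comp q) := by
    ext x
    refine ⟨fun hx => ⟨x, ?_⟩, ?_⟩
    · rw [LinearMap.mem_ker] at hx; simp [hx]
    · rintro ⟨y, rfl⟩; simp [h]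
  rw [e, LinearMap.range_eq_map]
  exact Module.Finite.fg_top.map _

variable {A σ : Type u} [CommRing A] [SetLike σ A] [AddSubgroupClass σ A] (𝒜 : ℕ → σ) [GradedRing 𝒜]
variable {e : ℕ} {f : A} (hf : f ∈ 𝒜 e) (he : 0 < e)

variable (f) in
/-- The unit `f` of `A_f`. -/
def fu : (Localization.Away f)ˣ :=
  (IsLocalization.Away.algebraMap_isUnit (S := Localization.Away f) f).unit

variable (f) in
abbrev am : A →+* Localization.Away f := algebraMap A (Localization.Away f)

variable (f) in
/-- Integer powers of `f`. -/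
def fz (q : ℤ) : Localization.Away f := ((fu f) ^ q : (Localization.Away f)ˣ)

theorem fz_add (p q : ℤ) : fz f (p + q) = fz f p * fz f q := by simp [fz, zpow_add]

theorem fz_nat (n : ℕ) : fz f n = am f (f ^ n) := by
  simp [fz, fu]

theorem fz_zero : fz f 0 = 1 := by simp [fz]

theorem eq_of_mul_pow {x y : Localization.Away f} {k : ℕ} (h : x * am f (f ^ k) = y) : x = y * fz f (-(k : ℤ)) := by
  rw [← h, ← fz_nat, mul_assoc, ← fz_add, add_neg_cancel, fz_zero, mul_one]

variable (f) in
/-- `A ⧸ (f - 1)`. -/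
abbrev Q : Type u := A ⧸ Ideal.span {f - 1}

theorem mk_f : Ideal.Quotient.mk (Ideal.span {f - 1}) f = 1 := by
  rw [← map_one (Ideal.Quotient.mk (Ideal.span {f - 1})), Ideal.Quotient.eq]
  exact Ideal.mem_span_singleton_self _

variable (f) in
/-- `A_f → A ⧸ (f - 1)`. -/
def toQ : Localization.Away f →+* Q f :=
  IsLocalization.Away.lift f (g := Ideal.Quotient.mk (Ideal.span {f - 1})) (by rw [mk_f]; exact isUnit_one)

theorem toQ_am (a : A) : toQ f (am f a) = Ideal.Quotient.mk _ a := IsLocalization.Away.lift_eq _ _ a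

theorem toQ_fz (q : ℤ) : toQ f (fz f q) = 1 := by
  have h : Units.map (toQ f).toMonoidHom (fu f) = 1 := by
    refine Units.ext ?_
    show toQ f (am f f) = 1
    rw [toQ_am, mk_f]
  show ((Units.map (toQ f).toMonoidHom ((fu f) ^ q) : (Q f)ˣ) : Q f) = 1
  rw [map_zpow, h, one_zpow, Units.val_one]

variable (f) in
/-- `A_(f) → A ⧸ (f - 1)`. -/
def degZeroToQ : Away 𝒜 f →+* Q f := (toQ f).comp (algebraMap (Away 𝒜 f) (Localization.Away f))

theorem val_mk (n : ℕ) (b : A) (hb : b ∈ 𝒜 (n • e)) :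
    algebraMap (Away 𝒜 f) (Localization.Away f) (Away.mk 𝒜 hf n b hb) = am f b * fz f (-(n : ℤ)) := by
  refine eq_of_mul_pow ?_
  rw [HomogeneousLocalization.algebraMap_apply, Away.val_mk, Localization.mk_eq_mk']
  exact IsLocalization.mk'_spec _ b _

include hf in
theorem degZeroToQ_mk (n : ℕ) (b : A) (hb : b ∈ 𝒜 (n • e)) :
    degZeroToQ 𝒜 f (Away.mk 𝒜 hf n b hb) = Ideal.Quotient.mk _ b := by
  show toQ f (algebraMap _ _ (Away.mk 𝒜 hf n b hb)) = _
  rw [val_mk, map_mul, toQ_am, toQ_fz, mul_one]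

variable (f e) in
/-- The component in degree `p` of the projection to degree `d`. -/
def comp (d : ℤ) (p : ℕ) : 𝒜 p →+ Localization.Away f :=
  if (e : ℤ) ∣ (p : ℤ) - d then
    (AddMonoidHom.mulRight (fz f (-(((p : ℤ) - d) / e)))).comp ((am f).toAddMonoidHom.comp (AddSubmonoidClass.subtype (𝒜 p)))
  else 0

variable (f e) in
/-- The projection to degree `d`. -/
def proj (d : ℤ) : A →+ Localization.Away f :=
  (DirectSum.toAddMonoid (comp 𝒜 e f d)).comp (DirectSum.decomposeAddEquiv 𝒜).toAddMonoidHom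

theorem proj_of_mem (d : ℤ) {p : ℕ} {a : A} (ha : a ∈ 𝒜 p) : proj 𝒜 e f d a = comp 𝒜 e f d p ⟨a, ha⟩ := by
  simp [proj, DirectSum.decomposeAddEquiv, DirectSum.decompose_of_mem 𝒜 ha]

include he in
theorem proj_of_eq (d : ℤ) {p : ℕ} {a : A} (ha : a ∈ 𝒜 p) {q : ℤ} (hq : (p : ℤ) - d = q * e) :
    proj 𝒜 e f d a = am f a * fz f (-q) := by
  rw [proj_of_mem 𝒜 d ha, comp, if_pos ⟨q, by rw [hq, mul_comm]⟩, hq, Int.mul_ediv_cancel q (by omega)]
  rfl

theorem proj_of_not_dvd (d : ℤ) {p : ℕ} {a : A} (ha : a ∈ 𝒜 p) (hq : ¬ (e : ℤ) ∣ (p : ℤ) - d) :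
    proj 𝒜 e f d a = 0 := by
  rw [proj_of_mem 𝒜 d ha, comp, if_neg hq]
  rfl

include hf he in
theorem proj_mul (d : ℤ) (n : ℕ) (b : A) (hb : b ∈ 𝒜 (n • e)) (a : A) :
    proj 𝒜 e f d (b * a) = am f b * fz f (-(n : ℤ)) * proj 𝒜 e f d a := by
  induction a using DirectSum.Decomposition.inductionOn 𝒜 with
  | zero => simp
  | @homogeneous p a =>
    obtain ⟨a, ha⟩ := a
    have hba : b * a ∈ 𝒜 (n • e + p) := SetLike.mul_mem_graded hb ha
    by_cases h : (e : ℤ) ∣ (p : ℤ) - d
    · obtain ⟨q, hq⟩ := h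
      rw [proj_of_eq 𝒜 he d ha (q := q) (by rw [hq, mul_comm]),
        proj_of_eq 𝒜 he d hba (q := n + q) (by push_cast [smul_eq_mul]; linear_combination hq), map_mul, neg_add, fz_add]
      ring
    · rw [proj_of_not_dvd 𝒜 d ha h, proj_of_not_dvd 𝒜 d hba (fun h' => h ?_), mul_zero]
      have h2 : (e : ℤ) ∣ (((n • e + p : ℕ) : ℤ) - d) - (n : ℤ) * e := dvd_sub h' (Dvd.intro_left _ rfl)
      convert h2 using 1
      push_cast [smul_eq_mul]
      ring
  | add a a' h h' => simp [mul_add, h, h']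

include hf he in
theorem proj_f_mul (d : ℤ) (a : A) : proj 𝒜 e f d (f * a) = proj 𝒜 e f d a := by
  rw [proj_mul 𝒜 hf he d 1 f (by simpa using hf) a]
  have e1 : am f f = fz f (1 : ℕ) := by rw [fz_nat, pow_one]
  rw [e1, ← fz_add, add_neg_cancel, fz_zero, one_mul]

variable (f e) in
/-- The degree `d` part of `A_f`, as a module over `A_(f)`. -/
def piece (hf : f ∈ 𝒜 e) (d : ℤ) : Submodule (Away 𝒜 f) (Localization.Away f) where
  carrier := {x | ∃ (k p : ℕ) (b : A), (p : ℤ) = k * e + d ∧ b ∈ 𝒜 p ∧ x * am f (f ^ k) = am f b} ∪ {0}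
  zero_mem' := Or.inr rfl
  add_mem' := by
    rintro x y (⟨k, p, b, hp, hb, hx⟩ | rfl) (⟨l, r, c, hr, hc, hy⟩ | rfl)
    · refine Or.inl ⟨k + l, p + l • e, f ^ l * b + f ^ k * c, ?_, ?_, ?_⟩
      · push_cast [smul_eq_mul]
        linear_combination hp
      · refine add_mem ?_ ?_
        · rw [add_comm p]; exact SetLike.mul_mem_graded (SetLike.pow_mem_graded l hf) hb
        · have hpr : p + l • e = k • e + r := by
            zify [smul_eq_mul]
            linear_combination hp - hr
          rw [hpr]; exact SetLike.mul_mem_graded (SetLike.pow_mem_graded k hf) hc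
      · rw [map_add, map_mul, map_mul, ← hx, ← hy, pow_add, map_mul]
        ring
    · rw [add_zero]; exact Or.inl ⟨k, p, b, hp, hb, hx⟩
    · rw [zero_add]; exact Or.inl ⟨l, r, c, hr, hc, hy⟩
    · exact Or.inr (add_zero 0)
  smul_mem' := by
    rintro c x (⟨k, p, b, hp, hb, hx⟩ | rfl)
    · obtain ⟨n, a, ha, rfl⟩ := Away.mk_surjective 𝒜 hf c
      refine Or.inl ⟨k + n, n • e + p, a * b, ?_, SetLike.mul_mem_graded ha hb, ?_⟩
      · push_cast [smul_eq_mul]
        linear_combination hp
      · rw [Algebra.smul_def, val_mk, pow_add, map_mul, map_mul, ← hx, ← fz_nat n]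
        have e1 : fz f (-(n : ℤ)) * fz f n = 1 := by rw [← fz_add, neg_add_cancel, fz_zero]
        linear_combination (am f a * x * am f (f ^ k)) * e1
    · exact Or.inr (smul_zero c)

include he in
theorem mem_piece_iff (d : ℤ) {x : Localization.Away f} :
    x ∈ piece 𝒜 e f hf d ↔ ∃ (k p : ℕ) (b : A), (p : ℤ) = k * e + d ∧ b ∈ 𝒜 p ∧ x * am f (f ^ k) = am f b := by
  refine ⟨?_, Or.inl⟩
  rintro (h | rfl)
  · exact h
  · obtain ⟨p, hp⟩ := Int.eq_ofNat_of_zero_le (a := (d.natAbs : ℤ) * e + d)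
      (by have : d.natAbs ≤ d.natAbs * e := Nat.le_mul_of_pos_right _ he; omega)
    exact ⟨d.natAbs, p, 0, hp.symm, zero_mem _, by simp⟩

include he in
theorem proj_mem (d : ℤ) (a : A) : proj 𝒜 e f d a ∈ piece 𝒜 e f hf d := by
  induction a using DirectSum.Decomposition.inductionOn 𝒜 with
  | zero => rw [map_zero]; exact zero_mem _
  | @homogeneous p a =>
    obtain ⟨a, ha⟩ := a
    by_cases h : (e : ℤ) ∣ (p : ℤ) - d
    · obtain ⟨q, hq⟩ := h
      rw [proj_of_eq 𝒜 he d ha (q := q) (by rw [hq, mul_comm])]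
      refine Or.inl ⟨q.toNat, (-q).toNat • e + p, f ^ (-q).toNat * a, ?_,
        SetLike.mul_mem_graded (SetLike.pow_mem_graded _ hf) ha, ?_⟩
      · push_cast [smul_eq_mul]
        linear_combination hq - (e : ℤ) * Int.toNat_sub_toNat_neg q
      · rw [mul_assoc, ← fz_nat, ← fz_add, map_mul, ← fz_nat]
        have : -q + (q.toNat : ℤ) = ((-q).toNat : ℤ) := by omega
        rw [this, mul_comm]
    · rw [proj_of_not_dvd 𝒜 d ha h]; exact zero_mem _
  | add a a' h h' => rw [map_add]; exact add_mem h h'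

include he in
theorem exists_fg (d : ℤ) {x : Localization.Away f} (hx : x ∈ piece 𝒜 e f hf d) :
    ∃ (a : A), Ideal.Quotient.mk (Ideal.span {f - 1}) a = toQ f x ∧ proj 𝒜 e f d a = x := by
  obtain ⟨k, p, b, hp, hb, hx⟩ := (mem_piece_iff 𝒜 hf he d).1 hx
  refine ⟨b, ?_, ?_⟩
  · rw [eq_of_mul_pow hx, map_mul, toQ_am, toQ_fz, mul_one]
  · rw [proj_of_eq 𝒜 he d hb (q := k) (by linear_combination hp), ← eq_of_mul_pow hx]

variable {R : Type u} [CommRing R] [Algebra R A] [Algebra.FinitePresentation R A]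

include hf he in
theorem main (hz : ∀ r : R, algebraMap R A r ∈ 𝒜 0) :
    ((fromZeroRingHom 𝒜 (Submonoid.powers f)).comp
      ({ toFun := fun r => ⟨algebraMap R A r, hz r⟩
         map_one' := Subtype.ext (map_one _)
         map_mul' := fun a b => Subtype.ext (map_mul _ a b)
         map_zero' := Subtype.ext (map_zero _)
         map_add' := fun a b => Subtype.ext (map_add _ a b) } : R →+* 𝒜 0)).FinitePresentation ∧
      ∀ d : ℤ, Module.FinitePresentation (Away 𝒜 f) (piece 𝒜 e f hf d) := by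
  let z : R →+* 𝒜 0 :=
    { toFun := fun r => ⟨algebraMap R A r, hz r⟩
      map_one' := Subtype.ext (map_one _)
      map_mul' := fun a b => Subtype.ext (map_mul _ a b)
      map_zero' := Subtype.ext (map_zero _)
      map_add' := fun a b => Subtype.ext (map_add _ a b) }
  letI algC : Algebra R (Away 𝒜 f) := ((fromZeroRingHom 𝒜 (Submonoid.powers f)).comp z).toAlgebra
  letI algB : Algebra (Away 𝒜 f) (Q f) := (degZeroToQ 𝒜 f).toAlgebra
  haveI : IsScalarTower R (Away 𝒜 f) (Q f) := IsScalarTower.of_algebraMap_eq' (RingHom.ext fun r => by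
    show Ideal.Quotient.mk _ (algebraMap R A r) = toQ f (algebraMap (Away 𝒜 f) (Localization.Away f) _)
    rw [← toQ_am]
    rfl)
  -- finite type
  haveI h0 : Algebra.FiniteType (𝒜 0) A := by
    have h : ((algebraMap (𝒜 0) A).comp z).FiniteType := by
      have e0 : (algebraMap (𝒜 0) A).comp z = algebraMap R A := rfl
      rw [e0]
      exact RingHom.finiteType_algebraMap.2 inferInstance
    exact RingHom.finiteType_algebraMap.mp (RingHom.FiniteType.of_comp_finiteType h)
  have hzft : z.FiniteType := by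
    have e0 : (GradedRing.projZeroRingHom' 𝒜).comp (algebraMap R A) = z := by
      refine RingHom.ext fun r => ?_
      exact GradedRing.projZeroRingHom'_apply_coe 𝒜 (z r)
    rw [← e0]
    exact (RingHom.FiniteType.of_surjective _ (GradedRing.projZeroRingHom'_surjective 𝒜)).comp
      (RingHom.finiteType_algebraMap.2 inferInstance)
  haveI hC : Algebra.FiniteType R (Away 𝒜 f) := by
    refine RingHom.finiteType_algebraMap.1 ?_
    haveI := HomogeneousLocalization.Away.finiteType (𝒜 := 𝒜) f e hf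
    exact (RingHom.finiteType_algebraMap.2 ‹Algebra.FiniteType (𝒜 0) (Away 𝒜 f)›).comp hzft
  haveI hQ : Algebra.FinitePresentation R (Q f) := Algebra.FinitePresentation.quotient (Submodule.fg_span_singleton _)
  haveI hQC : Algebra.FinitePresentation (Away 𝒜 f) (Q f) :=
    Algebra.FinitePresentation.of_restrict_scalars_finitePresentation R _ _
  haveI : Algebra.IsIntegral (Away 𝒜 f) (Q f) := by
    refine ⟨fun x => ?_⟩
    obtain ⟨a, rfl⟩ := Ideal.Quotient.mk_surjective x
    induction a using DirectSum.Decomposition.inductionOn 𝒜 with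
    | zero => rw [map_zero]; exact isIntegral_zero
    | @homogeneous p a =>
      obtain ⟨a, ha⟩ := a
      refine IsIntegral.of_pow he ?_
      have hae : a ^ e ∈ 𝒜 (p • e) := by
        rw [smul_eq_mul, mul_comm]; exact SetLike.pow_mem_graded e ha
      rw [← map_pow, ← degZeroToQ_mk 𝒜 hf p (a ^ e) hae]
      exact isIntegral_algebraMap
    | add a a' h h' => rw [map_add]; exact h.add h'
  haveI : Module.Finite (Away 𝒜 f) (Q f) := Algebra.IsIntegral.finite
  haveI hQm : Module.FinitePresentation (Away 𝒜 f) (Q f) := Module.FinitePresentation.of_finite_of_finitePresentation _ _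
  -- the retractions
  have hlift : ∀ d : ℤ, ∃ (q : Q f →ₗ[Away 𝒜 f] piece 𝒜 e f hf d) (s : piece 𝒜 e f hf d →ₗ[Away 𝒜 f] Q f),
      ∀ x, q (s x) = x := by
    intro d
    have hker : Ideal.span {f - 1} ≤ (Ideal.span {f - 1}) := le_rfl
    let Φ : Q f →+ Localization.Away f :=
      QuotientAddGroup.lift (Ideal.span {f - 1}).toAddSubgroup (proj 𝒜 e f d) (fun a ha => by
        obtain ⟨b, rfl⟩ := Ideal.mem_span_singleton'.1 ha
        show proj 𝒜 e f d (b * (f - 1)) = 0
        rw [mul_sub, mul_one, map_sub, mul_comm, proj_f_mul 𝒜 hf he, sub_self])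
    have hΦ : ∀ a, Φ (Ideal.Quotient.mk _ a) = proj 𝒜 e f d a := fun a => rfl
    let q : Q f →ₗ[Away 𝒜 f] piece 𝒜 e f hf d :=
      { toFun := fun x => ⟨Φ x, by
          obtain ⟨a, rfl⟩ := Ideal.Quotient.mk_surjective x
          rw [hΦ]; exact proj_mem 𝒜 hf he d a⟩
        map_add' := fun x y => Subtype.ext (map_add Φ x y)
        map_smul' := fun c x => by
          refine Subtype.ext ?_
          obtain ⟨n, b, hb, rfl⟩ := Away.mk_surjective 𝒜 hf c
          obtain ⟨a, rfl⟩ := Ideal.Quotient.mk_surjective x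
          show Φ (degZeroToQ 𝒜 f (Away.mk 𝒜 hf n b hb) * Ideal.Quotient.mk _ a) =
            algebraMap (Away 𝒜 f) (Localization.Away f) (Away.mk 𝒜 hf n b hb) * Φ (Ideal.Quotient.mk _ a)
          rw [degZeroToQ_mk, ← map_mul, hΦ, hΦ, val_mk, proj_mul 𝒜 hf he d n b hb] }
    let s : piece 𝒜 e f hf d →ₗ[Away 𝒜 f] Q f :=
      { toFun := fun x => toQ f x.1
        map_add' := fun x y => map_add (toQ f) x.1 y.1
        map_smul' := fun c x => map_mul (toQ f) _ _ }
    refine ⟨q, s, fun x => Subtype.ext ?_⟩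
    obtain ⟨a, ha, ha'⟩ := exists_fg 𝒜 hf he d x.2
    show Φ (toQ f x.1) = x.1
    rw [← ha, hΦ, ha']
  refine ⟨?_, fun d => ?_⟩
  · show Algebra.FinitePresentation R (Away 𝒜 f)
    obtain ⟨n, π, hπ⟩ := Algebra.FiniteType.iff_quotient_mvPolynomial''.1 hC
    letI : Algebra (MvPolynomial (Fin n) R) (Away 𝒜 f) := π.toRingHom.toAlgebra
    letI : Algebra (MvPolynomial (Fin n) R) (Q f) := ((degZeroToQ 𝒜 f).comp π.toRingHom).toAlgebra
    haveI : IsScalarTower (MvPolynomial (Fin n) R) (Away 𝒜 f) (Q f) := IsScalarTower.of_algebraMap_eq' rfl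
    haveI : IsScalarTower R (MvPolynomial (Fin n) R) (Q f) := IsScalarTower.of_algebraMap_eq' (RingHom.ext fun r => by
      show algebraMap R (Q f) r = degZeroToQ 𝒜 f (π (algebraMap R (MvPolynomial (Fin n) R) r))
      rw [π.commutes, IsScalarTower.algebraMap_apply R (Away 𝒜 f) (Q f)]
      rfl)
    haveI : Module.Finite (MvPolynomial (Fin n) R) (Away 𝒜 f) :=
      Module.Finite.of_surjective (Algebra.linearMap (MvPolynomial (Fin n) R) (Away 𝒜 f)) hπ
    haveI : Module.Finite (MvPolynomial (Fin n) R) (Q f) := Module.Finite.trans (Away 𝒜 f) (Q f)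
    haveI : Algebra.FinitePresentation (MvPolynomial (Fin n) R) (Q f) :=
      Algebra.FinitePresentation.of_restrict_scalars_finitePresentation R _ _
    haveI : Module.FinitePresentation (MvPolynomial (Fin n) R) (Q f) :=
      Module.FinitePresentation.of_finite_of_finitePresentation _ _
    obtain ⟨q, s, hqs⟩ := hlift 0
    have hone : (1 : Localization.Away f) ∈ piece 𝒜 e f hf 0 :=
      Or.inl ⟨0, 0, 1, by simp, SetLike.GradedOne.one_mem, by simp⟩
    let ι : Away 𝒜 f →ₗ[Away 𝒜 f] piece 𝒜 e f hf 0 := LinearMap.toSpanSingleton _ _ ⟨1, hone⟩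
    have hι : ∀ c, (ι c : Localization.Away f) = algebraMap (Away 𝒜 f) (Localization.Away f) c := fun c => by
      simp [ι, Algebra.smul_def]
    have hbij : Function.Bijective ι := by
      refine ⟨fun a b h => HomogeneousLocalization.val_injective _ ?_, fun x => ?_⟩
      · have := congrArg Subtype.val h
        rwa [hι, hι, HomogeneousLocalization.algebraMap_apply, HomogeneousLocalization.algebraMap_apply] at this
      · obtain ⟨k, p, b, hp, hb, hx⟩ := (mem_piece_iff 𝒜 hf he 0).1 x.2
        obtain rfl : p = k • e := by rw [add_zero] at hp; exact_mod_cast hp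
        refine ⟨Away.mk 𝒜 hf k b hb, Subtype.ext ?_⟩
        rw [hι, val_mk, ← eq_of_mul_pow hx]
    let E := LinearEquiv.ofBijective ι hbij
    haveI := fp_of_retraction ((E.symm.toLinearMap.comp q).restrictScalars (MvPolynomial (Fin n) R))
      ((s.comp E.toLinearMap).restrictScalars (MvPolynomial (Fin n) R))
      (fun x => by
        show E.symm (q (s (E x))) = x
        rw [hqs, E.symm_apply_apply])
    have hk := Module.FinitePresentation.fg_ker (Algebra.linearMap (MvPolynomial (Fin n) R) (Away 𝒜 f)) hπ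
    exact Algebra.FinitePresentation.of_surjective hπ hk
  · obtain ⟨q, s, hqs⟩ := hlift d
    exact fp_of_retraction q s hqs

end GrothLib.RelProjFP10
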