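import Groth.Agent.Lib.RelProjFP10.Algebra
import Groth.Agent.Lib.RelProjK.Local
import Groth.Agent.Lib.RelProjK.ProjProps
import Groth.Agent.Lib.GrTilde.QCoh
import Groth.Agent.Lib.FlatFP.Kernel
import Groth.Agent.Lib.FlatFP.Syzygy

/-!
# Relative Proj of a finitely presented graded algebra
-/

set_option autoImplicit false
set_option linter.all false
set_option backward.isDefEq.respectTransparency false

universe u

open CategoryTheory CategoryTheory.Limits AlgebraicGeometry TopologicalSpace Opposite HomogeneousLocalization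
open scoped HomogeneousIdeal
open GrothLib.GrTilde (evM evM_ext evM_add evM_smul fracM evM_fracM)
open GrothLib.Ample.ProjTwist (ev)

noncomputable section

namespace GrothLib.RelProjFP10

theorem fp_transfer {C D M N : Type u} [CommRing C] [CommRing D] [AddCommGroup M] [Module C M] [AddCommGroup N]
    [Module D N] [Module.FinitePresentation C M] (φ : C →+* D) (hφ : Function.Surjective φ) (e : M ≃+ N)
    (h : ∀ (c : C) (x : M), e (c • x) = φ c • e x) : Module.FinitePresentation D N := by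
  letI := φ.toAlgebra
  letI : Module C N := Module.compHom N φ
  haveI : IsScalarTower C D N := ⟨fun c d x => by
    show (φ c * d) • x = φ c • (d • x)
    rw [mul_smul]⟩
  haveI : Module.FinitePresentation C N :=
    Module.FinitePresentation.of_equiv (R := C) ({ e with map_smul' := h } : M ≃ₗ[C] N)
  exact FlatFP.finitePresentation_of_surjective_algebraMap (C := C) hφ

section sections

variable {R A : Type u} [CommRing R] [CommRing A] [Algebra R A] (𝒜 : ℕ → Submodule R A) [GradedAlgebra 𝒜]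
variable {e : ℕ} {f : A} (hf : f ∈ 𝒜 e) (he : 0 < e)

theorem nin (k : ℕ) (y : Proj.basicOpen 𝒜 f) : f ^ k ∉ y.1.asHomogeneousIdeal :=
  fun h => y.2 (y.1.isPrime.mem_of_pow_mem k h)

theorem ev_awayToSection_mk (n : ℕ) (a : A) (ha : a ∈ 𝒜 (n • e)) (y : Proj.basicOpen 𝒜 f) :
    ev y ((Proj.awayToSection 𝒜 f).hom (Away.mk 𝒜 hf n a ha)) =
      Localization.mk a (⟨f ^ n, nin 𝒜 n y⟩ : y.1.asHomogeneousIdeal.toIdeal.primeCompl) := by
  show ((show GrTwist.O (𝒜 := 𝒜) (op (Proj.basicOpen 𝒜 f)) from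
    (Proj.awayToSection 𝒜 f).hom (Away.mk 𝒜 hf n a ha)).1 y).val = _
  erw [ProjectiveSpectrum.Proj.awayToSection_apply]
  simp only [Away.val_mk, Localization.mk_eq_mk']
  erw [IsLocalization.map_mk']
  simp

include he in
theorem moduleFP_sections (d : ℤ) [Module.FinitePresentation (Away 𝒜 f) (piece 𝒜 e f hf d)] :
    Module.FinitePresentation Γ(Proj 𝒜, Proj.basicOpen 𝒜 f) Γ(Twist.twist 𝒜 d, Proj.basicOpen 𝒜 f) := by
  let V : (Proj 𝒜).Opens := Proj.basicOpen 𝒜 f
  show Module.FinitePresentation Γ(Proj 𝒜, V) Γ(_root_.GrTilde.tilde 𝒜 𝒜 d, V)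
  choose k p b hp hb hx using fun x : piece 𝒜 e f hf d => (mem_piece_iff 𝒜 hf he d).1 x.2
  let g : piece 𝒜 e f hf d → Γ(_root_.GrTilde.tilde 𝒜 𝒜 d, V) := fun x =>
    fracM (ℳ := 𝒜) (n := d) (V := V) (b x) (f ^ k x) (hb x) (SetLike.pow_mem_graded (k x) hf) (nin 𝒜 (k x))
      (Or.inl (by rw [hp x, smul_eq_mul, Nat.cast_mul]))
  have hev : ∀ (x : piece 𝒜 e f hf d) (l : ℕ) (c : A), x.1 * am f (f ^ l) = am f c → ∀ y : V,
      evM y (g x) = LocalizedModule.mk c (⟨f ^ l, nin 𝒜 l y⟩ : y.1.asHomogeneousIdeal.toIdeal.primeCompl) := by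
    intro x l c hl y
    rw [evM_fracM, LocalizedModule.mk_eq]
    have e1 : am f (b x * f ^ l) = am f (c * f ^ k x) := by
      rw [map_mul, map_mul, ← hx x, ← hl]; ring
    obtain ⟨⟨w, N, rfl⟩, hw⟩ := (IsLocalization.eq_iff_exists (Submonoid.powers f) _).1 e1
    refine ⟨⟨f ^ N, nin 𝒜 N y⟩, ?_⟩
    simp only [Submonoid.smul_def, smul_eq_mul]
    linear_combination hw
  have hadd : ∀ x x', g (x + x') = g x + g x' := fun x x' => evM_ext fun y => by
    rw [evM_add, evM_fracM (a := b x), evM_fracM (a := b x'), LocalizedModule.mk_add_mk]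
    have e1 : ((x + x' : piece 𝒜 e f hf d) : Localization.Away f) * am f (f ^ k x * f ^ k x') =
        am f (f ^ k x' * b x + f ^ k x * b x') := by
      rw [Submodule.coe_add, map_add, map_mul, map_mul, map_mul, ← hx x, ← hx x']; ring
    rw [← pow_add] at e1
    rw [hev _ _ _ (by rw [e1]) y]
    congr 1
    exact Subtype.ext (pow_add f _ _)
  let G : piece 𝒜 e f hf d →+ Γ(_root_.GrTilde.tilde 𝒜 𝒜 d, V) := AddMonoidHom.mk' g hadd
  have hinj : Function.Injective G := by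
    rw [injective_iff_map_eq_zero]
    intro x h0
    obtain ⟨N, hN⟩ := GrTilde.exists_pow_smul_eq_zero_of_mk 𝒜 (ℳ := 𝒜) hf he (hb x) (fun y hy =>
      ⟨⟨f ^ k x, nin 𝒜 (k x) ⟨y, hy⟩⟩, (evM_fracM (ℳ := 𝒜) (n := d) (V := V) (b x) (f ^ k x) (hb x)
        (SetLike.pow_mem_graded (k x) hf) (nin 𝒜 (k x)) (Or.inl (by rw [hp x, smul_eq_mul, Nat.cast_mul])) ⟨y, hy⟩).symm.trans
          (show evM (⟨y, hy⟩ : V) (g x) = 0 by rw [show g x = 0 from h0]; exact GrTilde.evM_zero _)⟩)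
    have hu : ∀ m : ℕ, IsUnit (am f (f ^ m)) := fun m => by
      rw [map_pow]; exact (IsLocalization.Away.algebraMap_isUnit f).pow m
    refine Subtype.ext ?_
    show x.1 = 0
    refine (hu (k x + N)).mul_left_eq_zero.1 ?_
    rw [pow_add, map_mul, ← mul_assoc, hx x, ← map_mul, mul_comm, show f ^ N * b x = 0 from hN, map_zero]
  have hsurj : Function.Surjective G := by
    intro m
    obtain ⟨l, -, q, a, hq, ha, hval⟩ := GrTilde.exists_frac 𝒜 (ℳ := 𝒜) hf he m
    let x : piece 𝒜 e f hf d := ⟨am f a * fz f (-(l : ℤ)), Or.inl ⟨l, q, a, by rw [hq, Nat.cast_mul], ha, by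
      rw [← fz_nat, mul_assoc, ← fz_add, neg_add_cancel, fz_zero, mul_one]⟩⟩
    refine ⟨x, evM_ext fun y => ?_⟩
    rw [hval y]
    refine hev x l a ?_ y
    rw [← fz_nat, mul_assoc, ← fz_add, neg_add_cancel, fz_zero, mul_one]
  refine fp_transfer (Proj.awayToSection 𝒜 f).hom ?_ (AddEquiv.ofBijective G ⟨hinj, hsurj⟩) ?_
  · haveI : IsIso (Proj.awayToSection 𝒜 f) := by
      rw [← Proj.basicOpenIsoAway_hom 𝒜 f hf he]; infer_instance
    exact (ConcreteCategory.bijective_of_isIso (Proj.awayToSection 𝒜 f)).2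
  · intro c x
    obtain ⟨n, a, ha, rfl⟩ := Away.mk_surjective 𝒜 hf c
    show g (Away.mk 𝒜 hf n a ha • x) = _ • g x
    refine evM_ext fun y => ?_
    rw [evM_smul, ev_awayToSection_mk 𝒜 hf n a ha y, evM_fracM (a := b x)]
    erw [LocalizedModule.mk_smul_mk]
    have e2 : ((Away.mk 𝒜 hf n a ha • x : piece 𝒜 e f hf d) : Localization.Away f) * am f (f ^ (n + k x)) =
        am f (a * b x) := by
      rw [Submodule.coe_smul, Algebra.smul_def, val_mk, pow_add, map_mul, map_mul, ← hx x, ← fz_nat n]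
      have e1 : fz f (-(n : ℤ)) * fz f n = 1 := by rw [← fz_add, neg_add_cancel, fz_zero]
      linear_combination (am f a * x.1 * am f (f ^ k x)) * e1
    rw [hev _ _ _ e2 y]
    congr 1
    exact Subtype.ext (pow_add f _ _)

end sections

theorem isFP_twist {A : Type u} [CommRing A] (𝒜 : ℕ → AddSubgroup A) [GradedRing 𝒜] {R₁ : Type u} [CommRing R₁]
    [Algebra R₁ A] [Algebra.FinitePresentation R₁ A] (hz : ∀ r : R₁, algebraMap R₁ A r ∈ 𝒜 0) (d : ℤ) :
    CohB1.IsFP (Twist.twist (RelProjK.zg 𝒜) d) := by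
  haveI := GrTilde.isQuasicoherent_twist (RelProjK.zg 𝒜) d
  refine FlatFP.isFP_of_sections _
    (fun df : Σ m : {m : ℕ // 0 < m}, RelProjK.zg 𝒜 m.1 => Proj.basicOpen (RelProjK.zg 𝒜) (df.2 : A))
    (GrTilde.iSup_basicOpen_pos (𝒜 := RelProjK.zg 𝒜)) (fun df => Proj.isAffineOpen_basicOpen _ _ df.2.2 df.1.2)
    fun df => ?_
  haveI := (main (RelProjK.zg 𝒜) df.2.2 df.1.2 hz).2 d
  exact moduleFP_sections (RelProjK.zg 𝒜) df.2.2 df.1.2 d

theorem lfp_qc_proj {R₁ A : Type u} [CommRing R₁] [CommRing A] (𝒜 : ℕ → AddSubgroup A) [GradedRing 𝒜]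
    [Algebra R₁ A] [Algebra.FinitePresentation R₁ A] (z : R₁ →+* 𝒜 0) (hz : ∀ r, (z r : A) = algebraMap R₁ A r) :
    LocallyOfFinitePresentation (Proj.toSpecZero 𝒜 ≫ Spec.map (CommRingCat.ofHom z)) ∧
      QuasiCompact (Proj.toSpecZero 𝒜 ≫ Spec.map (CommRingCat.ofHom z)) := by
  obtain ⟨T, hT, hspan⟩ := RelProjK.exists_finite_homogeneous_span 𝒜 (algebraMap R₁ A)
    (fun r => hz r ▸ (z r).2) (RingHom.finiteType_algebraMap.2 inferInstance)
  have hirr : (𝒜₊).toIdeal ≤ Ideal.span (Set.range fun t : T => t.1.2) := by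
    refine hspan.trans (le_of_eq ?_)
    rw [Set.image_eq_range]
    rfl
  let 𝒰 := Proj.affineOpenCoverOfIrrelevantLESpan 𝒜 (fun t : T => t.1.2) (m := fun t : T => t.1.1)
    (fun t => (hT t.1 t.2).2) (fun t => (hT t.1 t.2).1) hirr
  refine ⟨?_, ?_⟩
  · rw [IsZariskiLocalAtSource.iff_of_openCover (P := @LocallyOfFinitePresentation) 𝒰.openCover]
    show ∀ t : T, _
    intro t
    show LocallyOfFinitePresentation (Proj.awayι 𝒜 t.1.2 (hT t.1 t.2).2 (hT t.1 t.2).1 ≫ Proj.toSpecZero 𝒜 ≫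
      Spec.map (CommRingCat.ofHom z))
    rw [Proj.awayι_toSpecZero_assoc, ← Spec.map_comp, HasRingHomProperty.Spec_iff (P := @LocallyOfFinitePresentation)]
    have h := (main 𝒜 (hT t.1 t.2).2 (hT t.1 t.2).1 (R := R₁) (fun r => hz r ▸ (z r).2)).1
    show ((fromZeroRingHom 𝒜 (Submonoid.powers t.1.2)).comp z).FinitePresentation
    convert h using 2
    exact RingHom.ext fun r => Subtype.ext (hz r)
  · haveI : Finite 𝒰.openCover.I₀ := inferInstanceAs (Finite T)
    haveI : CompactSpace (Proj 𝒜) := 𝒰.openCover.compactSpace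
    exact (quasiCompact_iff_compactSpace _).2 inferInstance

end GrothLib.RelProjFP10
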